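import Groth.Agent.QuotContrLib.Square
import Groth.Agent.GenBCLib.SteinUnit
import Groth.Agent.RigidLib.Descent
import Groth.Agent.NormalFibLib.Basic
import Groth.Agent.FpqcDesc.Basic
import Groth.Agent.FpqcDesc.Stalk
import Groth.Agent.FppfSrc.Scheme
import Groth.Agent.MonoFibre.HomFlat

/-!
Contractions can be recognized after pulling back a product projection along an fppf covering.
-/

set_option autoImplicit false
set_option linter.all false
set_option backward.isDefEq.respectTransparency false

universe u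

open CategoryTheory CategoryTheory.Limits MonoidalCategory CartesianMonoidalCategory MonObj GrpObj AlgebraicGeometry

namespace Groth.Agent.QuotContrLib

variable {k : Type u} [Field k]

theorem isPullback_snd_fst (G Y : Over (Spec (CommRingCat.of k))) :
    IsPullback (snd G Y).left (fst G Y).left Y.hom G.hom :=
  (IsPullback.of_hasPullback G.hom Y.hom).flip

theorem isPullback_section (G Y : Over (Spec (CommRingCat.of k))) [GrpObj G] :
    IsPullback (lift (toUnit Y ≫ η[G]) (𝟙 Y)).left Y.hom (fst G Y).left η[G].left := by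
  refine IsPullback.of_right (h₁₂ := (snd G Y).left) (v₁₃ := Y.hom) (h₂₂ := G.hom) ?_ ?_ (isPullback_snd_fst G Y)
  · rw [← Over.comp_left, lift_snd, Over.w η[G]]
    show IsPullback (𝟙 Y.left) Y.hom Y.hom (𝟙 _)
    exact IsPullback.of_horiz_isIso ⟨by simp⟩
  · rw [← Over.comp_left, lift_fst, Over.comp_left]
    simp

theorem isField_top : IsField Γ(Spec (CommRingCat.of k), ⊤) :=
  MulEquiv.isField (Field.toIsField k) (Scheme.ΓSpecIso (CommRingCat.of k)).commRingCatIsoToRingEquiv.toMulEquiv

theorem forward {G X X' Y : Over (Spec (CommRingCat.of k))} [GrpObj G] [Nonempty Y.left]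
    {q' : G ⟶ X'} {f : X ⟶ X'} {m : G ⊗ Y ⟶ X} (hsq : IsPullback (fst G Y).left m.left q'.left f.left)
    [Flat q'.left] [IsProper f.left] (hfib : ∀ U : X'.left.Opens, IsIso (f.left.app U)) :
    IsProper Y.hom ∧ IsIso Y.hom.appTop := by
  haveI : IsProper (fst G Y).left := MorphismProperty.of_isPullback (P := @IsProper) hsq.flip inferInstance
  refine ⟨MorphismProperty.of_isPullback (P := @IsProper) (isPullback_section G Y) inferInstance,
    (ConcreteCategory.isIso_iff_bijective _).2 ⟨?_, fun s => ?_⟩⟩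
  · letI := (isField_top (k := k)).toField
    haveI : Nontrivial Γ(Y.left, ⊤) := @Scheme.component_nontrivial Y.left ⊤ ⟨⟨Classical.arbitrary Y.left, trivial⟩⟩
    exact RingHom.injective _
  · haveI : IsIso ((fst G Y).left.app ⊤) :=
      NormalFibLib.isIso_app_of_flat_baseChange hsq.flip (fun V _ => hfib V) ⊤
    obtain ⟨g, hg⟩ := (ConcreteCategory.bijective_of_isIso ((fst G Y).left.appTop)).2 ((snd G Y).left.appTop s)
    refine ⟨η[G].left.appTop g, ?_⟩
    have h1 := congrArg (lift (toUnit Y ≫ η[G]) (𝟙 Y)).left.appTop hg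
    have e1 : (lift (toUnit Y ≫ η[G]) (𝟙 Y)).left ≫ (fst G Y).left = Y.hom ≫ η[G].left := (isPullback_section G Y).w
    have e2 : (lift (toUnit Y ≫ η[G]) (𝟙 Y)).left ≫ (snd G Y).left = 𝟙 Y.left := by
      rw [← Over.comp_left, lift_snd]; rfl
    rw [← CommRingCat.comp_apply, ← CommRingCat.comp_apply, ← Scheme.Hom.comp_appTop, ← Scheme.Hom.comp_appTop,
      e1, e2, Scheme.Hom.comp_appTop] at h1
    simpa using h1

theorem backward {G X X' Y : Over (Spec (CommRingCat.of k))}
    {q' : G ⟶ X'} {f : X ⟶ X'} {m : G ⊗ Y ⟶ X} (hsq : IsPullback (fst G Y).left m.left q'.left f.left)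
    [Surjective q'.left] [Flat q'.left] [LocallyOfFinitePresentation q'.left]
    [Flat f.left] [LocallyOfFinitePresentation f.left] [IsProper Y.hom] (hY : IsIso Y.hom.appTop) :
    IsProper f.left ∧ ∀ U : X'.left.Opens, IsIso (f.left.app U) := by
  haveI := FpqcDesc.isProper_descends.{u}
  haveI : IsProper (fst G Y).left := MorphismProperty.of_isPullback (P := @IsProper) (isPullback_snd_fst G Y) inferInstance
  haveI : IsProper f.left := MorphismProperty.of_isPullback_of_descendsAlong (P := @IsProper)
    (Q := @Surjective ⊓ @Flat ⊓ @LocallyOfFinitePresentation) hsq ⟨⟨inferInstance, inferInstance⟩, inferInstance⟩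
    inferInstance
  refine ⟨inferInstance, fun U => (ConcreteCategory.isIso_iff_bijective _).2 (GenBCLib.bijective_app (fun s => ?_) U)⟩
  obtain ⟨t, rfl⟩ := q'.left.surjective s
  refine RigidLib.fibre_of_isPullback hsq.flip t ?_
  haveI : CompactSpace Y.left := QuasiCompact.compactSpace_of_compactSpace Y.hom
  haveI : QuasiSeparatedSpace Y.left := quasiSeparatedSpace_of_quasiSeparated Y.hom
  haveI : Flat (G.left.fromSpecResidueField t ≫ G.hom) := MonoFibre.flat_to_field (Field.toIsField k) _
  exact RigidLib.bijective_fibre_of_snd (RigidLib.bijective_appTop_of_isPullback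
    ((IsPullback.of_hasPullback (fst G Y).left (G.left.fromSpecResidueField t)).paste_horiz (isPullback_snd_fst G Y))
    (ConcreteCategory.bijective_of_isIso Y.hom.appTop))

theorem main {G H H' : Over (Spec (CommRingCat.of k))} [GrpObj G] [GrpObj H] [GrpObj H']
    (iH : H ⟶ G) (iH' : H' ⟶ G) [IsMonHom iH'] [Mono iH'] (e : H ⟶ H') (he : e ≫ iH' = iH)
    {X X' Y : Over (Spec (CommRingCat.of k))} (q : G ⟶ X) (hq : RedSub.IsQuotient iH q) (q' : G ⟶ X')
    (hq' : RedSub.IsQuotient iH' q') (f : X ⟶ X') (hf : q ≫ f = q') (r : H' ⟶ Y)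
    (hr : RedSub.IsQuotient e r) :
    (IsProper f.left ∧ ∀ U : X'.left.Opens, IsIso (f.left.app U)) ↔ (IsProper Y.hom ∧ IsIso Y.hom.appTop) := by
  obtain ⟨m, hm⟩ := exists_square iH iH' e he q hq q' hq' f hf r hr
  have hsq : IsPullback (fst G Y).left m.left q'.left f.left := hm.map (Over.forget _)
  obtain ⟨hs, hfl, hlp, -⟩ := id hq'
  obtain ⟨hs₁, hfl₁, hlp₁, -⟩ := id hq
  haveI := hs; haveI := hfl; haveI := hlp; haveI := hs₁; haveI := hfl₁; haveI := hlp₁
  haveI : Nonempty Y.left := ⟨r.left (η[H'].left (IsLocalRing.closedPoint k))⟩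
  have hl : q.left ≫ f.left = q'.left := by rw [← Over.comp_left, hf]
  haveI : Flat (q.left ≫ f.left) := by rw [hl]; exact hfl
  haveI : LocallyOfFinitePresentation (q.left ≫ f.left) := by rw [hl]; exact hlp
  haveI : Flat f.left := FlatDescStalk.flat_of_comp q.left f.left
  haveI : LocallyOfFinitePresentation f.left := FppfSrc.locallyOfFinitePresentation_of_precomp_fppf q.left f.left
  constructor
  · rintro ⟨hp, hfib⟩
    haveI := hp
    exact forward hsq hfib
  · rintro ⟨hp, hY⟩
    haveI := hp
    exact backward hsq hY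

end Groth.Agent.QuotContrLib
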