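import Groth.Agent.QuotContrLib.Square
import Groth.Agent.GrpSchLib.Cartier
import Groth.Agent.MonoFibre.HomFlat
import Groth.Agent.SubDesc.Family
import Groth.Agent.ASp.PropDescend
import Groth.Agent.FpqcDesc.Basic
import Groth.Agent.FpqcDesc.Stalk
import Groth.Agent.FppfSrc.Scheme

/-!
A quotient is affine if the quotients of a normal piece and of the image in the quotient by it are.
-/

set_option autoImplicit false
set_option linter.all false
set_option backward.isDefEq.respectTransparency false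

universe u

open CategoryTheory CategoryTheory.Limits MonoidalCategory CartesianMonoidalCategory MonObj GrpObj AlgebraicGeometry

namespace Groth.Agent.QuotContrLib

section General

variable {S : Scheme.{u}} {G G' G₀ G₁ G₀' G₁' : Over S} [GrpObj G] [GrpObj G'] [GrpObj G₀] [GrpObj G₁]
  [GrpObj G₀'] [GrpObj G₁']
  (i' : G' ⟶ G) [IsMonHom i'] [Mono i'] (i₀ : G₀ ⟶ G) [IsMonHom i₀] [Mono i₀]
  (q₁ : G ⟶ G₁) [IsMonHom q₁] (hq₁ : RedSub.IsQuotient i₀ q₁)
  (i₁' : G₁' ⟶ G₁) [IsMonHom i₁'] [Mono i₁'] (p : G' ⟶ G₁') (hp : p ≫ i₁' = i' ≫ q₁)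

theorem exists_grpObj_preimage {K : Over S} (ιK : K ⟶ G) (πK : K ⟶ G₁') (hK : IsPullback ιK πK q₁ i₁') :
    ∃ _ : GrpObj K, IsMonHom ιK := by
  haveI : Mono ιK := hK.mono_fst_of_mono
  refine SubDesc.exists_grpObj_of_closed ιK (fun {T} x y => ?_) (fun {T} x => ?_) ?_
  · exact ⟨hK.lift ((x ≫ ιK) * (y ≫ ιK)) ((x ≫ πK) * (y ≫ πK))
      (by simp only [MonObj.mul_comp, Category.assoc, hK.w]), hK.lift_fst _ _ _⟩
  · exact ⟨hK.lift (x ≫ ιK)⁻¹ (x ≫ πK)⁻¹ (by simp only [GrpObj.inv_comp, Category.assoc, hK.w]), hK.lift_fst _ _ _⟩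
  · exact ⟨hK.lift 1 1 (by simp only [MonObj.one_comp]), hK.lift_fst _ _ _⟩

include hq₁ in
theorem comp_eq_one {T : Over S} (n : T ⟶ G₀) : n ≫ i₀ ≫ q₁ = 1 := by
  have h := mul_comp_of_isQuotient hq₁ (1 : T ⟶ G) n
  rwa [_root_.one_mul, MonObj.one_comp, Category.assoc] at h

theorem isQuotient_comp {K Qb : Over S} [GrpObj K] (ιK : K ⟶ G) (πK : K ⟶ G₁')
    (hK : IsPullback ιK πK q₁ i₁') [Surjective q₁.left] [Flat q₁.left] [LocallyOfFinitePresentation q₁.left]
    (qb : G₁ ⟶ Qb) (hqb : RedSub.IsQuotient i₁' qb) : RedSub.IsQuotient ιK (q₁ ≫ qb) := by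
  obtain ⟨hs, hf, hl, -⟩ := id hqb
  haveI := hs; haveI := hf; haveI := hl
  haveI : Mono ιK := hK.mono_fst_of_mono
  refine ⟨by rw [Over.comp_left]; infer_instance, by rw [Over.comp_left]; infer_instance,
    by rw [Over.comp_left]; infer_instance, ?_⟩
  have d : ∀ {T : Over S} (c : T ⟶ G ⊗ K), c ≫ (G ◁ ιK) ≫ μ[G] = (c ≫ fst G K) * ((c ≫ snd G K) ≫ ιK) := by
    intro T c
    conv_lhs => rw [← Category.comp_id c, ← lift_fst_snd, comp_lift, lift_whiskerLeft_assoc]
    rfl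
  have hrel : ∀ {T : Over S} (x : T ⟶ G) (κ : T ⟶ K), (x * (κ ≫ ιK)) ≫ q₁ ≫ qb = x ≫ q₁ ≫ qb := by
    intro T x κ
    rw [← Category.assoc, MonObj.mul_comp, Category.assoc κ, hK.w, ← Category.assoc κ, mul_comp_of_isQuotient hqb,
      Category.assoc]
  have key : ∀ {T : Over S} (x y : T ⟶ G), x ≫ q₁ ≫ qb = y ≫ q₁ ≫ qb → ∃ κ : T ⟶ K, x * (κ ≫ ιK) = y := by
    intro T x y h
    obtain ⟨c, hc⟩ := rel_of_isQuotient hqb (x ≫ q₁) (y ≫ q₁) (by simpa using h)
    refine ⟨hK.lift (x⁻¹ * y) c (by rw [MonObj.mul_comp, GrpObj.inv_comp, hc, _root_.inv_mul_cancel_left]), ?_⟩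
    rw [hK.lift_fst, _root_.mul_inv_cancel_left]
  have hw : fst G K ≫ q₁ ≫ qb = ((G ◁ ιK) ≫ μ[G]) ≫ q₁ ≫ qb := by
    have e := d (𝟙 (G ⊗ K))
    simp only [Category.id_comp] at e
    rw [e, hrel]
  exact ⟨⟨hw⟩, ⟨PullbackCone.isLimitAux' _ fun c => ⟨lift c.fst (key c.fst c.snd c.condition).choose,
    lift_fst _ _, (lift_whiskerLeft_assoc _ _ _ _).trans (key c.fst c.snd c.condition).choose_spec,
    fun {m} h1 h2 => by
      have h2' : (m ≫ fst G K) * ((m ≫ snd G K) ≫ ιK) = c.snd := (d m).symm.trans h2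
      refine CartesianMonoidalCategory.hom_ext _ _ (h1.trans (lift_fst _ _).symm) ?_
      rw [lift_snd, ← cancel_mono ιK]
      refine mul_left_cancel (a := c.fst) ?_
      rw [(key c.fst c.snd c.condition).choose_spec]
      rw [show m ≫ fst G K = c.fst from h1] at h2'
      exact h2'⟩⟩⟩

variable [Surjective p.left] [Flat p.left] [LocallyOfFinitePresentation p.left]

include hq₁ hp in
theorem exists_isQuotient_piece {K Qa : Over S} [GrpObj K] (ιK : K ⟶ G) [IsMonHom ιK] (πK : K ⟶ G₁')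
    (hK : IsPullback ιK πK q₁ i₁') (e : G' ⟶ K) (he : e ≫ ιK = i')
    (j : G₀' ⟶ G₀) [IsMonHom j] (j' : G₀' ⟶ G') (hj : IsPullback j j' i₀ i')
    (qa : G₀ ⟶ Qa) (hqa : RedSub.IsQuotient j qa) [Surjective (fst G₀ G').left] [Flat (fst G₀ G').left]
    [LocallyOfFinitePresentation (fst G₀ G').left] :
    ∃ r : K ⟶ Qa, RedSub.IsQuotient e r := by
  obtain ⟨has, haf, hal, -⟩ := id hqa
  haveI := has; haveI := haf; haveI := hal
  haveI : Mono ιK := hK.mono_fst_of_mono
  haveI : Mono e := mono_of_mono_fac he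
  let M : G₀ ⊗ G' ⟶ K := hK.lift ((fst G₀ G' ≫ i₀) * (snd G₀ G' ≫ i')) (snd G₀ G' ≫ p) (by
    rw [MonObj.mul_comp, Category.assoc, comp_eq_one i₀ q₁ hq₁, _root_.one_mul, Category.assoc, Category.assoc, hp])
  have hM : ∀ {T : Over S} (n : T ⟶ G₀) (h : T ⟶ G'), (lift n h ≫ M) ≫ ιK = (n ≫ i₀) * (h ≫ i') := fun n h => by
    rw [Category.assoc, hK.lift_fst, MonObj.comp_mul, lift_fst_assoc, lift_snd_assoc]
  have hsqM : IsPullback M (snd G₀ G') πK p := by
    refine ⟨⟨hK.lift_snd _ _ _⟩, ⟨PullbackCone.isLimitAux' _ fun c => ?_⟩⟩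
    have h1 : ((c.fst ≫ ιK) * (c.snd ≫ i')⁻¹) ≫ q₁ = (1 : c.pt ⟶ G) ≫ q₁ := by
      rw [MonObj.one_comp, MonObj.mul_comp, GrpObj.inv_comp, Category.assoc, hK.w, ← Category.assoc, c.condition,
        Category.assoc, Category.assoc, hp, mul_inv_cancel]
    obtain ⟨n, hn⟩ := Classical.indefiniteDescription _ (rel_of_isQuotient hq₁ _ _ h1.symm)
    refine ⟨lift n c.snd, ?_, lift_snd _ _, fun {m} e1 e2 => ?_⟩
    · rw [← cancel_mono ιK]
      exact (hM n c.snd).trans (by rw [show n ≫ i₀ = (c.fst ≫ ιK) * (c.snd ≫ i')⁻¹ by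
        rw [hn, _root_.one_mul], inv_mul_cancel_right])
    · refine CartesianMonoidalCategory.hom_ext _ _ ?_ (e2.trans (lift_snd _ _).symm)
      rw [lift_fst, ← cancel_mono i₀]
      have e1' : (m ≫ M) ≫ ιK = c.fst ≫ ιK := congrArg (· ≫ ιK) e1
      rw [Category.assoc, hK.lift_fst, MonObj.comp_mul, ← Category.assoc, ← Category.assoc m (snd G₀ G'),
        show m ≫ snd G₀ G' = c.snd from e2] at e1'
      rw [eq_mul_inv_of_mul_eq e1', ← _root_.one_mul (n ≫ i₀), ← hn]
  have hsqL : IsPullback M.left (snd G₀ G').left πK.left p.left := hsqM.map (Over.forget S)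
  haveI : Surjective M.left := MorphismProperty.of_isPullback (P := @Surjective) hsqL.flip inferInstance
  haveI : Flat M.left := MorphismProperty.of_isPullback (P := @Flat) hsqL.flip inferInstance
  haveI : LocallyOfFinitePresentation M.left :=
    MorphismProperty.of_isPullback (P := @LocallyOfFinitePresentation) hsqL.flip inferInstance
  haveI := SchDesc.IsFpqc.of_locallyOfFinitePresentation M.left
  obtain ⟨r, hr⟩ := GrpQuotLib.exists_desc M (fst G₀ G' ≫ qa) (fun T a b hab => by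
    have h := congrArg (· ≫ ιK) hab
    simp only [M, Category.assoc, hK.lift_fst, MonObj.comp_mul] at h
    simp only [← Category.assoc] at h ⊢
    generalize a ≫ fst G₀ G' = n at h ⊢
    generalize a ≫ snd G₀ G' = g at h ⊢
    generalize b ≫ fst G₀ G' = n2 at h ⊢
    generalize b ≫ snd G₀ G' = g2 at h ⊢
    have h' : (n⁻¹ * n2) ≫ i₀ = (g * g2⁻¹) ≫ i' := by
      rw [MonObj.mul_comp, MonObj.mul_comp, GrpObj.inv_comp, GrpObj.inv_comp, inv_mul_eq_iff_eq_mul,
        ← _root_.mul_assoc, eq_mul_inv_iff_mul_eq]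
      exact h.symm
    have h3 := mul_comp_of_isQuotient hqa n (hj.lift _ _ h')
    rw [hj.lift_fst, _root_.mul_inv_cancel_left] at h3
    exact h3.symm)
  have hA : ∀ {T : Over S} (n : T ⟶ G₀) (h : T ⟶ G'), (lift n h ≫ M) ≫ r = n ≫ qa := fun n h => by
    rw [Category.assoc, hr, lift_fst_assoc]
  haveI : Surjective (M.left ≫ r.left) := by rw [← Over.comp_left, hr, Over.comp_left]; infer_instance
  haveI : Flat (M.left ≫ r.left) := by rw [← Over.comp_left, hr, Over.comp_left]; infer_instance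
  haveI : LocallyOfFinitePresentation (M.left ≫ r.left) := by rw [← Over.comp_left, hr, Over.comp_left]; infer_instance
  refine ⟨r, Surjective.of_comp M.left r.left, FlatDescStalk.flat_of_comp M.left r.left,
    FppfSrc.locallyOfFinitePresentation_of_precomp_fppf M.left r.left, ?_⟩
  have hdecomp : ∀ {T : Over S} (x : T ⟶ K), ∃ (T' : Over S) (c : T' ⟶ T) (n : T' ⟶ G₀) (h : T' ⟶ G'),
      Surjective c.left ∧ Flat c.left ∧ LocallyOfFinitePresentation c.left ∧ c ≫ x = lift n h ≫ M := by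
    intro T x
    obtain ⟨T', c, z, hs, hf, hl, hz⟩ := GrpQuotLib.exists_lift_cover M x
    exact ⟨T', c, z ≫ fst G₀ G', z ≫ snd G₀ G', hs, hf, hl, by rw [hz, ← comp_lift, lift_fst_snd, Category.comp_id]⟩
  have hmulM : ∀ {T : Over S} (n : T ⟶ G₀) (h g : T ⟶ G'),
      (lift n h ≫ M) * (g ≫ e) = lift n (h * g) ≫ M := by
    intro T n h g
    rw [← cancel_mono ιK, MonObj.mul_comp, hM, hM, Category.assoc, he, MonObj.mul_comp, _root_.mul_assoc]
  have d : ∀ {T : Over S} (c : T ⟶ K ⊗ G'), c ≫ (K ◁ e) ≫ μ[K] = (c ≫ fst K G') * ((c ≫ snd K G') ≫ e) := by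
    intro T c
    conv_lhs => rw [← Category.comp_id c, ← lift_fst_snd, comp_lift, lift_whiskerLeft_assoc]
    rfl
  have hw : fst K G' ≫ r = ((K ◁ e) ≫ μ[K]) ≫ r := by
    obtain ⟨T', c, n, h, hs, hf, hl, hc⟩ := hdecomp (fst K G')
    haveI := hs; haveI := hf; haveI := hl
    haveI := epi_of_cover c
    rw [← cancel_epi c, ← Category.assoc, hc, hA, ← Category.assoc c, d, hc, hmulM, hA]
  have key : ∀ {T : Over S} (x y : T ⟶ K), x ≫ r = y ≫ r → ∃ g : T ⟶ G', x * (g ≫ e) = y := by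
    intro T x y hxy
    obtain ⟨T₁, t₁, n, h, hs₁, hf₁, hl₁, h₁⟩ := hdecomp x
    obtain ⟨T₂, t₂, n₂, h₂, hs₂, hf₂, hl₂, h2⟩ := hdecomp (t₁ ≫ y)
    haveI := hs₁; haveI := hf₁; haveI := hl₁; haveI := hs₂; haveI := hf₂; haveI := hl₂
    haveI : Surjective (t₂ ≫ t₁).left := by rw [Over.comp_left]; infer_instance
    haveI : Flat (t₂ ≫ t₁).left := by rw [Over.comp_left]; infer_instance
    haveI : LocallyOfFinitePresentation (t₂ ≫ t₁).left := by rw [Over.comp_left]; infer_instance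
    haveI : Mono e.left := inferInstanceAs (Mono ((Over.forget S).map e))
    have h1' : t₂ ≫ t₁ ≫ x = lift (t₂ ≫ n) (t₂ ≫ h) ≫ M := by rw [h₁, ← Category.assoc, comp_lift]
    have e3 : (t₂ ≫ t₁ ≫ x) ≫ r = (t₂ ≫ t₁ ≫ y) ≫ r := by simp only [Category.assoc, hxy]
    rw [h1', h2, hA, hA] at e3
    obtain ⟨δ, hδ⟩ := rel_of_isQuotient hqa _ _ e3
    obtain ⟨g, hg⟩ := GrpQuotLib.exists_lift_of_cover e (t₂ ≫ t₁) ((t₂ ≫ h)⁻¹ * (δ ≫ j') * h₂) (x⁻¹ * y) (by
      rw [MonObj.comp_mul, GrpObj.comp_inv, Category.assoc, Category.assoc, h1', h2, eq_inv_mul_iff_mul_eq, hmulM,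
        ← cancel_mono ιK, hM, hM, hδ]
      simp only [MonObj.mul_comp, GrpObj.inv_comp, Category.assoc, hj.w, ← _root_.mul_assoc, mul_inv_cancel_right]
      )
    exact ⟨g, by rw [hg, _root_.mul_inv_cancel_left]⟩
  exact ⟨⟨hw⟩, ⟨PullbackCone.isLimitAux' _ fun c => ⟨lift c.fst (key c.fst c.snd c.condition).choose,
    lift_fst _ _, (lift_whiskerLeft_assoc _ _ _ _).trans (key c.fst c.snd c.condition).choose_spec,
    fun {m} h1 h2 => by
      have h2' : (m ≫ fst K G') * ((m ≫ snd K G') ≫ e) = c.snd := (d m).symm.trans h2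
      refine CartesianMonoidalCategory.hom_ext _ _ (h1.trans (lift_fst _ _).symm) ?_
      rw [lift_snd, ← cancel_mono e]
      refine mul_left_cancel (a := c.fst) ?_
      rw [(key c.fst c.snd c.condition).choose_spec]
      rw [show m ≫ fst K G' = c.fst from h1] at h2'
      exact h2'⟩⟩⟩

end General

theorem main_affine {k : Type u} [Field k] [CharZero k]
    {G G' G₀ G₁ G₀' G₁' Qa Qb Q : Over (Spec (CommRingCat.of k))} [GrpObj G] [GrpObj G'] [GrpObj G₀] [GrpObj G₁]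
    [GrpObj G₀'] [GrpObj G₁'] [LocallyOfFiniteType G.hom]
    (i' : G' ⟶ G) [IsMonHom i'] [IsClosedImmersion i'.left] (i₀ : G₀ ⟶ G) [IsMonHom i₀] [IsClosedImmersion i₀.left]
    (q₁ : G ⟶ G₁) [IsMonHom q₁] (hq₁ : RedSub.IsQuotient i₀ q₁)
    (j : G₀' ⟶ G₀) [IsMonHom j] (j' : G₀' ⟶ G') (hj : IsPullback j j' i₀ i')
    (i₁' : G₁' ⟶ G₁) [IsMonHom i₁'] [IsClosedImmersion i₁'.left]
    (p : G' ⟶ G₁') (hp : p ≫ i₁' = i' ≫ q₁) [Surjective p.left]
    (qa : G₀ ⟶ Qa) (hqa : RedSub.IsQuotient j qa) (ha : IsAffine Qa.left)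
    (qb : G₁ ⟶ Qb) (hqb : RedSub.IsQuotient i₁' qb) (hb : IsAffine Qb.left)
    (q : G ⟶ Q) (hq : RedSub.IsQuotient i' q) : IsAffine Q.left := by
  obtain ⟨h1s, h1f, h1l, -⟩ := id hq₁
  obtain ⟨hbs, hbf, hbl, -⟩ := id hqb
  obtain ⟨hqs, hqf, hql, -⟩ := id hq
  haveI := h1s; haveI := h1f; haveI := h1l
  haveI := hqs; haveI := hqf; haveI := hql
  haveI := hbs; haveI := hbf; haveI := hbl
  haveI : Mono i' := Over.mono_of_mono_left i'
  haveI : Mono i₀ := Over.mono_of_mono_left i₀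
  haveI : Mono i₁' := Over.mono_of_mono_left i₁'
  haveI : LocallyOfFiniteType G₁.hom := by
    haveI : LocallyOfFinitePresentation (q₁.left ≫ G₁.hom) := by rw [Over.w]; infer_instance
    haveI := FppfSrc.locallyOfFinitePresentation_of_precomp_fppf q₁.left G₁.hom
    infer_instance
  haveI : LocallyOfFiniteType G'.hom := by rw [← Over.w i']; infer_instance
  haveI : LocallyOfFiniteType G₀.hom := by rw [← Over.w i₀]; infer_instance
  haveI : LocallyOfFiniteType G₁'.hom := by rw [← Over.w i₁']; infer_instance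
  haveI : Smooth G₁'.hom := GrpSchLib.smooth_of_charZero G₁'
  haveI : IsReduced G₁'.left := ASp.isReduced_of_smooth G₁'.hom
  haveI : IsMonHom p :=
    ⟨(cancel_mono i₁').1 (by rw [Category.assoc, hp, IsMonHom.one_hom, IsMonHom.one_hom]),
     (cancel_mono i₁').1 (by
      rw [Category.assoc, hp, IsMonHom.mul_hom, Category.assoc, IsMonHom.mul_hom i₁', tensorHom_comp_tensorHom_assoc, hp])⟩
  haveI : Flat p.left := MonoFibre.flat_of_surjective p
  haveI : IsLocallyNoetherian G₁'.left := LocallyOfFiniteType.isLocallyNoetherian G₁'.hom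
  haveI : LocallyOfFiniteType p.left := by
    haveI : LocallyOfFiniteType (p.left ≫ G₁'.hom) := by rw [Over.w]; infer_instance
    exact locallyOfFiniteType_of_comp p.left G₁'.hom
  haveI : LocallyOfFinitePresentation p.left := inferInstance
  let K := pullback q₁ i₁'
  have hK : IsPullback (pullback.fst q₁ i₁') (pullback.snd q₁ i₁') q₁ i₁' := IsPullback.of_hasPullback _ _
  obtain ⟨gK, hmK⟩ := exists_grpObj_preimage q₁ i₁' _ _ hK
  letI := gK
  haveI := hmK
  have e0 : p ≫ i₁' = i' ≫ q₁ := hp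
  let e : G' ⟶ K := pullback.lift i' p e0.symm
  have hG₀G' : IsPullback (snd G₀ G').left (fst G₀ G').left G'.hom G₀.hom :=
    (IsPullback.of_hasPullback G₀.hom G'.hom).flip
  haveI : Nonempty G'.left := ⟨η[G'].left (IsLocalRing.closedPoint k)⟩
  haveI : Surjective G'.hom := ⟨fun y => ⟨η[G'].left y, by
    rw [← Scheme.Hom.comp_apply, Over.w η[G']]; exact congrArg _ rfl⟩⟩
  haveI : Flat G'.hom := MonoFibre.flat_to_field (Field.toIsField k) _
  haveI : Surjective (fst G₀ G').left := MorphismProperty.of_isPullback (P := @Surjective) hG₀G' inferInstance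
  haveI : Flat (fst G₀ G').left := MorphismProperty.of_isPullback (P := @Flat) hG₀G' inferInstance
  haveI : LocallyOfFinitePresentation (fst G₀ G').left :=
    MorphismProperty.of_isPullback (P := @LocallyOfFinitePresentation) hG₀G' inferInstance
  obtain ⟨r, hr⟩ := exists_isQuotient_piece i' i₀ q₁ hq₁ i₁' p hp (pullback.fst q₁ i₁') (pullback.snd q₁ i₁') hK e
    (pullback.lift_fst _ _ _) j j' hj qa hqa
  have hq' := isQuotient_comp q₁ i₁' _ _ hK qb hqb
  haveI := SchDesc.IsFpqc.of_locallyOfFinitePresentation q.left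
  obtain ⟨f, hf⟩ := GrpQuotLib.exists_desc q (q₁ ≫ qb) (fun T a b h => by
    obtain ⟨n, rfl⟩ := rel_of_isQuotient hq a b h
    rw [← pullback.lift_fst i' p e0.symm, ← Category.assoc n]
    exact (mul_comp_of_isQuotient hq' a (n ≫ e)).symm)
  haveI : Mono (pullback.fst q₁ i₁') := inferInstance
  obtain ⟨m, hm⟩ := exists_square i' (pullback.fst q₁ i₁') e (pullback.lift_fst _ _ _) q hq (q₁ ≫ qb) hq' f hf r hr
  have hsq : IsPullback (fst G Qa).left m.left (q₁ ≫ qb).left f.left := hm.map (Over.forget _)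
  haveI : IsAffineHom Qa.hom := inferInstance
  haveI : IsAffineHom (fst G Qa).left :=
    MorphismProperty.of_isPullback (P := @IsAffineHom) (IsPullback.of_hasPullback G.hom Qa.hom).flip inferInstance
  haveI := FpqcDesc.isAffineHom_descends.{u}
  haveI : IsAffineHom f.left := MorphismProperty.of_isPullback_of_descendsAlong (P := @IsAffineHom)
    (Q := @Surjective ⊓ @Flat ⊓ @LocallyOfFinitePresentation) hsq
    ⟨⟨by rw [Over.comp_left]; infer_instance, by rw [Over.comp_left]; infer_instance⟩,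
      by rw [Over.comp_left]; infer_instance⟩ inferInstance
  exact isAffine_of_isAffineHom f.left

end Groth.Agent.QuotContrLib
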