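import Groth.Prelude.Def_RedSub
import Groth.Agent.GrpQuotLib.Kernel
import Groth.Agent.GrpQuotLib.Descend

/-!
The map of quotients `G/H ⟶ G/H'` becomes the projection `G × H'/H ⟶ G` after pulling back along
`G ⟶ G/H'`.
-/

set_option autoImplicit false
set_option linter.all false
set_option backward.isDefEq.respectTransparency false

universe u

open CategoryTheory CategoryTheory.Limits MonoidalCategory CartesianMonoidalCategory MonObj GrpObj AlgebraicGeometry

namespace Groth.Agent.QuotContrLib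

variable {S : Scheme.{u}}

theorem epi_of_cover {T' T : Over S} (c : T' ⟶ T) [Surjective c.left] [Flat c.left]
    [LocallyOfFinitePresentation c.left] : Epi c := by
  haveI := SchDesc.IsFpqc.of_locallyOfFinitePresentation c.left
  exact ⟨fun _ _ h => Over.OverMorphism.ext ((cancel_epi c.left).1 (congrArg CommaMorphism.left h))⟩

theorem rel_of_isQuotient {G H Q : Over S} [GrpObj G] [GrpObj H] {i : H ⟶ G} {q : G ⟶ Q}
    (hq : RedSub.IsQuotient i q) {T : Over S} (x y : T ⟶ G) (h : x ≫ q = y ≫ q) :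
    ∃ n : T ⟶ H, y = x * (n ≫ i) := by
  obtain ⟨-, -, -, hsq⟩ := hq
  have h1 := hsq.lift_snd x y h
  refine ⟨hsq.lift x y h ≫ snd G H, ?_⟩
  have h3 : hsq.lift x y h = lift x (hsq.lift x y h ≫ snd G H) :=
    CartesianMonoidalCategory.hom_ext _ _ (by rw [hsq.lift_fst, lift_fst]) (by rw [lift_snd])
  rw [h3, lift_whiskerLeft_assoc] at h1
  exact h1.symm

theorem mul_comp_of_isQuotient {G H Q : Over S} [GrpObj G] [GrpObj H] {i : H ⟶ G} {q : G ⟶ Q}
    (hq : RedSub.IsQuotient i q) {T : Over S} (x : T ⟶ G) (n : T ⟶ H) :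
    (x * (n ≫ i)) ≫ q = x ≫ q := by
  obtain ⟨-, -, -, hsq⟩ := hq
  have h1 := congrArg (lift x n ≫ ·) hsq.w
  simp only [lift_fst_assoc, lift_whiskerLeft_assoc, Category.assoc] at h1
  exact (Category.assoc _ _ _).trans h1.symm

theorem exists_square {G H H' : Over S} [GrpObj G] [GrpObj H] [GrpObj H']
    (iH : H ⟶ G) (iH' : H' ⟶ G) [IsMonHom iH'] [Mono iH'] (e : H ⟶ H') (he : e ≫ iH' = iH)
    {X X' Y : Over S} (q : G ⟶ X) (hq : RedSub.IsQuotient iH q) (q' : G ⟶ X')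
    (hq' : RedSub.IsQuotient iH' q') (f : X ⟶ X') (hf : q ≫ f = q') (r : H' ⟶ Y)
    (hr : RedSub.IsQuotient e r) :
    ∃ m : G ⊗ Y ⟶ X, IsPullback (fst G Y) m q' f := by
  obtain ⟨hrs, hrf, hrp, -⟩ := id hr
  haveI := hrs; haveI := hrf; haveI := hrp
  haveI := SchDesc.IsFpqc.of_locallyOfFinitePresentation r.left
  haveI := GrpQuotLib.isFpqc_whiskerLeft r G
  obtain ⟨hqs, hqf, hqp, -⟩ := id hq
  haveI := hqs; haveI := hqf; haveI := hqp
  haveI := GrpQuotLib.epi_of_isFpqc (G ◁ r)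
  obtain ⟨m, hm⟩ := GrpQuotLib.exists_desc (G ◁ r) ((fst G H' * (snd G H' ≫ iH')) ≫ q)
    (fun T a b hab => by
      have h1 : a ≫ fst G H' = b ≫ fst G H' := by simpa using congrArg (· ≫ fst G Y) hab
      have h2 : (a ≫ snd G H') ≫ r = (b ≫ snd G H') ≫ r := by simpa using congrArg (· ≫ snd G Y) hab
      obtain ⟨n, hn⟩ := rel_of_isQuotient hr _ _ h2
      rw [← Category.assoc a, ← Category.assoc b, MonObj.comp_mul, MonObj.comp_mul, ← Category.assoc a (snd G H'),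
        ← Category.assoc b (snd G H'), ← h1, hn, MonObj.mul_comp _ _ iH', Category.assoc n e, he, ← _root_.mul_assoc,
        mul_comp_of_isQuotient hq])
  have hA : ∀ {T : Over S} (x : T ⟶ G) (h : T ⟶ H'), lift x (h ≫ r) ≫ m = (x * (h ≫ iH')) ≫ q := fun {T} x h => by
    rw [← lift_whiskerLeft, Category.assoc, hm, ← Category.assoc, MonObj.comp_mul, lift_fst, lift_snd_assoc]
  refine ⟨m, ?_⟩
  have hw : fst G Y ≫ q' = m ≫ f := by
    rw [← cancel_epi (G ◁ r), whiskerLeft_fst_assoc, reassoc_of% hm, hf, mul_comp_of_isQuotient hq']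
  haveI hmono : Mono (lift (fst G Y) m) := ⟨fun {T} a b hab => by
    have e1 : a ≫ fst G Y = b ≫ fst G Y := by simpa using congrArg (· ≫ fst G X) hab
    have e2 : a ≫ m = b ≫ m := by simpa using congrArg (· ≫ snd G X) hab
    obtain ⟨T₁, t₁, κ₁, _, _, _, eκ₁⟩ := GrpQuotLib.exists_lift_cover r (a ≫ snd G Y)
    obtain ⟨T₂, t₂, κ₂, _, _, _, eκ₂⟩ := GrpQuotLib.exists_lift_cover r (t₁ ≫ b ≫ snd G Y)
    haveI := epi_of_cover t₁
    haveI := epi_of_cover t₂
    rw [← cancel_epi t₁, ← cancel_epi t₂]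
    have ea : t₂ ≫ t₁ ≫ a = lift (t₂ ≫ t₁ ≫ a ≫ fst G Y) ((t₂ ≫ κ₁) ≫ r) :=
      CartesianMonoidalCategory.hom_ext _ _ (by simp) (by simp [eκ₁])
    have eb : t₂ ≫ t₁ ≫ b = lift (t₂ ≫ t₁ ≫ a ≫ fst G Y) (κ₂ ≫ r) :=
      CartesianMonoidalCategory.hom_ext _ _ (by simp [e1]) (by simp [eκ₂])
    have e4 : (t₂ ≫ t₁ ≫ a) ≫ m = (t₂ ≫ t₁ ≫ b) ≫ m := by simp [e2]
    rw [ea, eb, hA, hA] at e4
    obtain ⟨n, hn⟩ := rel_of_isQuotient hq _ _ e4
    rw [← he, ← Category.assoc n e iH', _root_.mul_assoc, ← MonObj.mul_comp, mul_left_cancel_iff, cancel_mono] at hn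
    rw [ea, eb, hn, mul_comp_of_isQuotient hr]⟩
  haveI : Mono (lift (fst G Y) m).left := inferInstanceAs (Mono ((Over.forget S).map (lift (fst G Y) m)))
  have key : ∀ {T : Over S} (a : T ⟶ G) (b : T ⟶ X), a ≫ q' = b ≫ f →
      ∃ z : T ⟶ G ⊗ Y, z ≫ lift (fst G Y) m = lift a b := by
    intro T a b hab
    obtain ⟨T₁, t₁, y, _, _, _, ey⟩ := GrpQuotLib.exists_lift_cover q b
    have e' : (t₁ ≫ a) ≫ q' = y ≫ q' := by
      rw [Category.assoc, hab, reassoc_of% ey, hf]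
    obtain ⟨h, hh⟩ := rel_of_isQuotient hq' _ _ e'
    refine GrpQuotLib.exists_lift_of_cover (lift (fst G Y) m) t₁ (lift (t₁ ≫ a) (h ≫ r)) (lift a b) ?_
    rw [comp_lift, comp_lift, lift_fst, hA, ← hh, ey]
  exact ⟨⟨hw⟩, ⟨PullbackCone.isLimitAux' _ fun c => ⟨(key c.fst c.snd c.condition).choose,
    ((congrArg (_ ≫ ·) (lift_fst (fst G Y) m).symm).trans ((Category.assoc _ _ _).symm.trans
      ((congrArg (· ≫ fst G X) (key c.fst c.snd c.condition).choose_spec).trans (lift_fst _ _)))),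
    ((congrArg (_ ≫ ·) (lift_snd (fst G Y) m).symm).trans ((Category.assoc _ _ _).symm.trans
      ((congrArg (· ≫ snd G X) (key c.fst c.snd c.condition).choose_spec).trans (lift_snd _ _)))),
    fun {z} h1 h2 => (cancel_mono (lift (fst G Y) m)).1
      ((CartesianMonoidalCategory.hom_ext _ _ (by rw [Category.assoc, lift_fst, lift_fst]; exact h1)
        (by rw [Category.assoc, lift_snd, lift_snd]; exact h2) : z ≫ lift (fst G Y) m = lift c.fst c.snd).trans
        (key c.fst c.snd c.condition).choose_spec.symm)⟩⟩⟩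

end Groth.Agent.QuotContrLib
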