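import Groth.Agent.QuotContrLib.Square
import Groth.Agent.FpqcDesc.Stalk
import Groth.Agent.FppfSrc.Scheme

/-!
`G/H = (G/D)/(H/D)` when `H` is the preimage of a subgroup of the quotient `G/D`.
-/

set_option autoImplicit false
set_option linter.all false
set_option backward.isDefEq.respectTransparency false

universe u

open CategoryTheory CategoryTheory.Limits MonoidalCategory CartesianMonoidalCategory MonObj GrpObj AlgebraicGeometry

namespace Groth.Agent.QuotContrLib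

variable {S : Scheme.{u}}

theorem existsUnique_quotient_preimage {G D C T H Q : Over S} [GrpObj G] [GrpObj D] [GrpObj C] [GrpObj T] [GrpObj H]
    (d : D ⟶ G) (f₀ : G ⟶ C) [IsMonHom f₀] (hquot : RedSub.IsQuotient d f₀)
    (t : T ⟶ C) [IsMonHom t] [Mono t] (k : H ⟶ G) (g : H ⟶ T) (hsq : IsPullback k g f₀ t)
    (q : G ⟶ Q) (hq : RedSub.IsQuotient k q) :
    ∃! q' : C ⟶ Q, f₀ ≫ q' = q ∧ RedSub.IsQuotient t q' := by
  obtain ⟨hs0, hf0, hl0, -⟩ := id hquot
  obtain ⟨hs, hf, hl, -⟩ := id hq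
  haveI := hs0; haveI := hf0; haveI := hl0; haveI := hs; haveI := hf; haveI := hl
  haveI := SchDesc.IsFpqc.of_locallyOfFinitePresentation f₀.left
  haveI := epi_of_cover f₀
  haveI : Mono k := hsq.mono_fst_of_mono
  obtain ⟨q', hq'⟩ := GrpQuotLib.exists_desc f₀ q (fun T' a b hab => by
    have h1 : (a⁻¹ * b) ≫ f₀ = (1 : T' ⟶ T) ≫ t := by
      rw [MonObj.one_comp, MonObj.mul_comp, GrpObj.inv_comp, hab, _root_.inv_mul_cancel]
    have h3 := mul_comp_of_isQuotient hq a (hsq.lift _ _ h1)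
    rw [hsq.lift_fst, _root_.mul_inv_cancel_left] at h3
    exact h3.symm)
  refine ⟨q', ⟨hq', ?_⟩, fun y hy => by rw [← cancel_epi f₀, hy.1, hq']⟩
  haveI : Surjective (f₀.left ≫ q'.left) := by rw [← Over.comp_left, hq']; infer_instance
  haveI : Flat (f₀.left ≫ q'.left) := by rw [← Over.comp_left, hq']; infer_instance
  haveI : LocallyOfFinitePresentation (f₀.left ≫ q'.left) := by rw [← Over.comp_left, hq']; infer_instance
  refine ⟨Surjective.of_comp f₀.left q'.left, FlatDescStalk.flat_of_comp f₀.left q'.left,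
    FppfSrc.locallyOfFinitePresentation_of_precomp_fppf f₀.left q'.left, ?_⟩
  have dd : ∀ {T' : Over S} (c : T' ⟶ C ⊗ T),
      c ≫ (C ◁ t) ≫ μ[C] = (c ≫ fst C T) * ((c ≫ snd C T) ≫ t) := by
    intro T' c
    conv_lhs => rw [← Category.comp_id c, ← lift_fst_snd, comp_lift, lift_whiskerLeft_assoc]
    rfl
  have hA : ∀ {T' : Over S} (c : T' ⟶ C) (s : T' ⟶ T), (c * (s ≫ t)) ≫ q' = c ≫ q' := by
    intro T' c s
    obtain ⟨T₁, t₁, x, hs₁, hf₁, hl₁, hx⟩ := GrpQuotLib.exists_lift_cover f₀ c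
    obtain ⟨T₂, t₂, y, hs₂, hf₂, hl₂, hy⟩ := GrpQuotLib.exists_lift_cover f₀ (t₁ ≫ s ≫ t)
    haveI := hs₁; haveI := hf₁; haveI := hl₁; haveI := hs₂; haveI := hf₂; haveI := hl₂
    haveI := epi_of_cover t₁
    haveI := epi_of_cover t₂
    have h1 : y ≫ f₀ = (t₂ ≫ t₁ ≫ s) ≫ t := by rw [← hy]; simp
    have h3 := mul_comp_of_isQuotient hq (t₂ ≫ x) (hsq.lift _ _ h1)
    rw [hsq.lift_fst, ← hq', ← Category.assoc, ← Category.assoc (t₂ ≫ x), MonObj.mul_comp, Category.assoc t₂ x,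
      ← hx, ← hy] at h3
    rw [← cancel_epi t₁, ← cancel_epi t₂]
    simpa only [← Category.assoc, MonObj.comp_mul] using h3
  have key : ∀ {T' : Over S} (a b : T' ⟶ C), a ≫ q' = b ≫ q' → ∃ s : T' ⟶ T, a * (s ≫ t) = b := by
    intro T' a b hab
    obtain ⟨T₁, t₁, x, hs₁, hf₁, hl₁, hx⟩ := GrpQuotLib.exists_lift_cover f₀ a
    obtain ⟨T₂, t₂, y, hs₂, hf₂, hl₂, hy⟩ := GrpQuotLib.exists_lift_cover f₀ (t₁ ≫ b)
    haveI := hs₁; haveI := hf₁; haveI := hl₁; haveI := hs₂; haveI := hf₂; haveI := hl₂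
    haveI : Surjective (t₂ ≫ t₁).left := by rw [Over.comp_left]; infer_instance
    haveI : Flat (t₂ ≫ t₁).left := by rw [Over.comp_left]; infer_instance
    haveI : LocallyOfFinitePresentation (t₂ ≫ t₁).left := by rw [Over.comp_left]; infer_instance
    haveI : Mono t.left := inferInstanceAs (Mono ((Over.forget S).map t))
    have e : (t₂ ≫ x) ≫ q = y ≫ q := by
      rw [← hq', Category.assoc, ← reassoc_of% hx, ← reassoc_of% hy, hab]
    obtain ⟨h, hh⟩ := rel_of_isQuotient hq _ _ e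
    obtain ⟨s, hs'⟩ := GrpQuotLib.exists_lift_of_cover t (t₂ ≫ t₁) (h ≫ g) (a⁻¹ * b) (by
      rw [MonObj.comp_mul, GrpObj.comp_inv, Category.assoc, Category.assoc, Category.assoc, hy, hh, MonObj.mul_comp,
        ← hsq.w, hx]
      simp only [Category.assoc, _root_.inv_mul_cancel_left])
    exact ⟨s, by rw [hs', _root_.mul_inv_cancel_left]⟩
  have hw : fst C T ≫ q' = ((C ◁ t) ≫ μ[C]) ≫ q' := by
    have e := dd (𝟙 (C ⊗ T))
    simp only [Category.id_comp] at e
    rw [e, hA]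
  exact ⟨⟨hw⟩, ⟨PullbackCone.isLimitAux' _ fun c => ⟨lift c.fst (key c.fst c.snd c.condition).choose,
    lift_fst _ _, (lift_whiskerLeft_assoc _ _ _ _).trans (key c.fst c.snd c.condition).choose_spec,
    fun {m} h1 h2 => by
      have h2' : (m ≫ fst C T) * ((m ≫ snd C T) ≫ t) = c.snd := (dd m).symm.trans h2
      refine CartesianMonoidalCategory.hom_ext _ _ (h1.trans (lift_fst _ _).symm) ?_
      rw [lift_snd, ← cancel_mono t]
      refine mul_left_cancel (a := c.fst) ?_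
      rw [(key c.fst c.snd c.condition).choose_spec]
      rw [show m ≫ fst C T = c.fst from h1] at h2'
      exact h2'⟩⟩⟩

end Groth.Agent.QuotContrLib
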